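import Cfsg.Agent.QdFree.PairAction
import Cfsg.Agent.Coprime.Generation
import Cfsg.Agent.Coprime.Series
import Cfsg.Agent.Coprime.SchurZassenhaus
import Cfsg.Agent.Core.Basics

/-!
A Sylow `p`-subgroup of class two with nondegenerate commutator form above a self-centralising
normal elementary abelian `p`-subgroup.
-/

set_option autoImplicit false

open Subgroup
open scoped commutatorElement Pointwise

namespace Cfsg.Agent.PLenShape

universe u

variable {T : Type u} [Group T] [Finite T] {p : ℕ} [hp : Fact p.Prime]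

theorem core_cases (P V Kf Z : Subgroup T) [V.Normal] [Kf.Normal] [IsMulCommutative V]
    (hP : IsPGroup p P) (hmax : ∀ D : Subgroup T, IsPGroup p D → P ≤ D → D = P)
    (hexp : ∀ v ∈ V, v ^ p = 1) (hVP : V ≤ P) (hne : ¬ P ≤ V) (hVK : V ≤ Kf)
    (hKc : (V.relIndex Kf).Coprime p)
    (hcentK : ∀ g : T, (∀ k ∈ Kf, ⁅k, g⁆ ∈ V) → g ∈ Kf)
    (hCV : centralizer (V : Set T) ≤ V) (hZV : Z ≤ V)
    (hc : ∀ z ∈ Z, ∀ x ∈ P, x * z = z * x) (hcm : ∀ x ∈ P, ∀ y ∈ P, ⁅x, y⁆ ∈ Z)
    (hpw : ∀ x ∈ P, x ^ p ∈ Z)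
    (hrad : ∀ W : Subgroup T, W < Z → ∀ u ∈ P, (∀ x ∈ P, ⁅u, x⁆ ∈ W) → u ∈ Z) :
    Z.relIndex P = p ^ 2 ∧ V.relIndex P = p ∧ p ≤ 3 := by
  have hcen : ∀ v ∈ V, ∀ w ∈ V, v * w = w * v := fun v hv w hw =>
    congrArg Subtype.val (IsMulCommutative.is_comm.comm (⟨v, hv⟩ : V) ⟨w, hw⟩)
  have hbr : ∀ u ∈ P, ∀ x ∈ P, ∀ y ∈ P, ⁅u, x * y⁆ = ⁅u, x⁆ * ⁅u, y⁆ := by
    intro u hu x hx y hy
    have e : ⁅u, x * y⁆ = ⁅u, x⁆ * (x * ⁅u, y⁆ * x⁻¹) := by simp [commutatorElement_def, mul_assoc]
    rw [e, hc _ (hcm u hu y hy) x hx, mul_inv_cancel_right]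
  have hbl : ∀ u ∈ P, ∀ w ∈ P, ∀ x ∈ P, ⁅u * w, x⁆ = ⁅u, x⁆ * ⁅w, x⁆ := by
    intro u hu w hw x hx
    have e : ⁅u * w, x⁆ = u * ⁅w, x⁆ * u⁻¹ * ⁅u, x⁆ := by simp [commutatorElement_def, mul_assoc]
    rw [e, hc _ (hcm w hw x hx) u hu, mul_inv_cancel_right]
    exact hcen _ (hZV (hcm w hw x hx)) _ (hZV (hcm u hu x hx))
  have hone : ∀ a b : T, a * b = b * a → ⁅a, b⁆ = 1 := fun a b h =>
    commutatorElement_eq_one_iff_mul_comm.2 h
  -- `P ⊓ Kf ≤ V`
  have hPK : ∀ y ∈ P, y ∈ Kf → y ∈ V := by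
    intro y hy hyK
    have h1 : V.relIndex (P ⊓ Kf) = 1 := by
      obtain ⟨a, ha⟩ := IsPGroup.iff_card.1 hP
      refine Nat.eq_one_of_dvd_coprimes (hKc.pow_right a) ?_ ?_
      · have : (V.subgroupOf Kf).Normal := inferInstance
        exact Layer.relIndex_dvd_relIndex_of_le inf_le_right
      · exact ha ▸ (relIndex_dvd_card V (P ⊓ Kf)).trans (card_dvd_of_le inf_le_left)
    exact relIndex_eq_one.1 h1 ⟨hy, hyK⟩
  -- the stabiliser of the series `V ≥ Z ≥ 1`
  have star : ∀ k ∈ Kf, k ∈ normalizer (Z : Set T) → ∀ x ∈ P, ⁅k, x⁆ ∈ V := by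
    intro k hk hkN
    let D : Subgroup T :=
      { carrier := {g | (∀ z ∈ Z, g * z = z * g) ∧ ∀ v ∈ V, ⁅g, v⁆ ∈ Z}
        one_mem' := ⟨fun z _ => by simp, fun v _ => by simp⟩
        mul_mem' := fun {g h} hg hh => ⟨fun z hz => by
            rw [mul_assoc, hh.1 z hz, ← mul_assoc, hg.1 z hz, mul_assoc], fun v hv => by
            have e : ⁅g * h, v⁆ = g * ⁅h, v⁆ * g⁻¹ * ⁅g, v⁆ := by
              simp [commutatorElement_def, mul_assoc]
            rw [e, hg.1 _ (hh.2 v hv), mul_inv_cancel_right]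
            exact mul_mem (hh.2 v hv) (hg.2 v hv)⟩
        inv_mem' := fun {g} hg => ⟨fun z hz => by
            rw [eq_mul_inv_iff_mul_eq, mul_assoc, ← hg.1 z hz, inv_mul_cancel_left], fun v hv => by
            have e : ⁅g⁻¹, v⁆ = g⁻¹ * ⁅g, v⁆⁻¹ * g := by simp [commutatorElement_def, mul_assoc]
            rw [e, mul_assoc, ← hg.1 _ (inv_mem (hg.2 v hv)), inv_mul_cancel_left]
            exact inv_mem (hg.2 v hv)⟩ }
    have hPD : P ≤ D := fun x hx => ⟨fun z hz => hc z hz x hx, fun v hv => hcm x hx v (hVP hv)⟩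
    have hVp : IsPGroup p V := hP.to_le hVP
    have hDp : IsPGroup p D := by
      rintro ⟨d, hd⟩
      obtain ⟨a, m, hm, hdm⟩ := Nat.exists_eq_pow_mul_and_not_dvd (orderOf_pos d).ne' p hp.out.ne_one
      refine ⟨a, Subtype.ext ?_⟩
      show d ^ p ^ a = 1
      set e := d ^ p ^ a with he
      have heD : e ∈ D := pow_mem hd _
      have heo : orderOf e = m := by
        rw [he, orderOf_pow' _ (pow_pos hp.out.pos a).ne', hdm,
          Nat.gcd_eq_right (dvd_mul_right _ _), Nat.mul_div_cancel_left _ (pow_pos hp.out.pos a)]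
      have hcop : (Nat.card (zpowers e)).Coprime (Nat.card V) := by
        obtain ⟨b, hb⟩ := IsPGroup.iff_card.1 hVp
        rw [Nat.card_zpowers, heo, hb]
        exact Nat.Coprime.pow_right b (hp.out.coprime_iff_not_dvd.2 hm).symm
      have hle : zpowers e ≤ D := zpowers_le.2 heD
      have hnZ : zpowers e ≤ normalizer (Z : Set T) := fun g hg => centralizer_le_normalizer _
        (mem_centralizer_iff.2 fun z hz => ((hle hg).1 z hz).symm)
      have hcomm : ⁅V, zpowers e⁆ ≤ Z := by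
        rw [commutator_le]
        intro v hv g hg
        rw [← commutatorElement_inv g v]
        exact inv_mem ((hle hg).2 v hv)
      have hcomm' : ⁅Z, zpowers e⁆ ≤ ⊥ := by
        rw [commutator_le]
        intro z hz g hg
        rw [mem_bot]; exact hone _ _ ((hle hg).1 z hz).symm
      have hcz := Coprime.le_centralizer_of_series (A := zpowers e) (H := V) hcop
        (Group.isSolvable_of_comm fun x y => mul_comm' x y) (n := 2) ![V, Z, ⊥] rfl rfl
        (Fin.antitone_iff_succ_le.2 fun i => by fin_cases i <;> simp [hZV]) (fun i => by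
          fin_cases i
          · exact le_top.trans (normalizer_eq_top_iff.2 (inferInstance : V.Normal)).ge
          · exact hnZ
          · exact le_top.trans (normalizer_eq_top_iff.2 (inferInstance : (⊥ : Subgroup T).Normal)).ge) (fun i => by
          fin_cases i
          · exact hcomm
          · exact hcomm')
      have heV : zpowers e ≤ V := hcz.trans hCV
      have h1 : Nat.card (zpowers e) = 1 := Nat.eq_one_of_dvd_coprimes hcop dvd_rfl
        (card_dvd_of_le heV)
      rw [Nat.card_zpowers, orderOf_eq_one_iff] at h1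
      exact h1
    have hDP : D = P := hmax D hDp hPD
    intro x hx
    have hkx : k * x * k⁻¹ ∈ D := by
      have hxD := hPD hx
      refine ⟨fun z hz => ?_, fun v hv => ?_⟩
      · have := hxD.1 _ ((mem_normalizer_iff''.1 hkN z).1 hz)
        calc k * x * k⁻¹ * z = k * (x * (k⁻¹ * z * k)) * k⁻¹ := by group
          _ = k * ((k⁻¹ * z * k) * x) * k⁻¹ := by rw [this]
          _ = z * (k * x * k⁻¹) := by group
      · have h1 := hxD.2 (k⁻¹ * v * k) (by simpa using Normal.conj_mem inferInstance v hv k⁻¹)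
        have e : ⁅k * x * k⁻¹, v⁆ = k * ⁅x, k⁻¹ * v * k⁆ * k⁻¹ := by
          simp [commutatorElement_def, mul_assoc]
        rw [e]
        exact (mem_normalizer_iff.1 hkN _).1 h1
    rw [hDP] at hkx
    refine hPK _ (mul_mem hkx (inv_mem hx)) ?_
    rw [commutatorElement_def, show k * x * k⁻¹ * x⁻¹ = k * (x * k⁻¹ * x⁻¹) by group]
    exact mul_mem hk (Normal.conj_mem inferInstance _ (inv_mem hk) x)
  -- normalising `Z` from a single inclusion
  have hnorm : ∀ k : T, (∀ z ∈ Z, k * z * k⁻¹ ∈ Z) → k ∈ normalizer (Z : Set T) := by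
    intro k hk
    have hle : Z.map (MulAut.conj k).toMonoidHom ≤ Z := by
      rintro _ ⟨z, hz, rfl⟩; exact hk z hz
    have he := eq_of_le_of_card_ge hle (card_map_of_injective (MulAut.conj k).injective).ge
    rw [mem_normalizer_iff]
    intro z
    refine ⟨hk z, fun hz => ?_⟩
    rw [← he] at hz
    obtain ⟨w, hw, e⟩ := hz
    exact (MulAut.conj k).injective e ▸ hw
  -- a nontrivial piece of the form generates `Z`
  have hgen : ∀ (S : Subgroup T) (x u : T), S ≤ P → x ∈ P → (∀ y ∈ P, ∃ j : ℤ, y * (x ^ j)⁻¹ ∈ S) →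
      u ∈ V → (∀ s ∈ S, u * s = s * u) → u * x ≠ x * u →
      Z = zpowers ⁅u, x⁆ ∧ Nat.card Z = p := by
    intro S x u hS hx hcov hu hus hux
    have hc0 : ⁅u, x⁆ ≠ 1 := fun h => hux (commutatorElement_eq_one_iff_mul_comm.1 h)
    let ψ : P →* T := MonoidHom.mk' (fun y => ⁅u, (y : T)⁆) fun a b => hbr u (hVP hu) _ a.2 _ b.2
    have hle : zpowers ⁅u, x⁆ ≤ Z := zpowers_le.2 (hcm u (hVP hu) x hx)
    have hZeq : Z = zpowers ⁅u, x⁆ := by
      by_contra hne'
      have huZ := hrad _ (lt_of_le_of_ne hle fun h => hne' h.symm) u (hVP hu) fun y hy => by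
        obtain ⟨j, hj⟩ := hcov y hy
        have h1 : ψ ⟨y, hy⟩ = ψ ⟨y * (x ^ j)⁻¹, hS hj⟩ * ψ (⟨x, hx⟩ ^ j) := by
          rw [← map_mul]; congr 1; exact Subtype.ext (by simp)
        have h2 : ψ ⟨y * (x ^ j)⁻¹, hS hj⟩ = 1 := hone _ _ (hus _ hj)
        rw [h2, one_mul, map_zpow] at h1
        have h3 : ⁅u, y⁆ = ⁅u, x⁆ ^ j := h1
        rw [h3]
        exact zpow_mem (mem_zpowers _) j
      exact hux (hc u huZ x hx).symm
    refine ⟨hZeq, ?_⟩
    rw [hZeq, Nat.card_zpowers]
    refine orderOf_eq_prime ?_ hc0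
    have h1 : ψ (⟨x, hx⟩ ^ p) = 1 := hone _ _ ((hc _ (hpw x hx) u (hVP hu)))
    rwa [map_pow] at h1
  -- `V < P` with cyclic quotient
  obtain ⟨x, hxP, hcov⟩ : ∃ x ∈ P, ∀ y ∈ P, ∃ j : ℤ, y * (x ^ j)⁻¹ ∈ V := by
    by_contra hB
    push Not at hB
    let π := QuotientGroup.mk' V
    set R := P.map π with hR
    set K := Kf.map π with hK
    have hπ : ∀ {g h : T}, π g = π h → g * h⁻¹ ∈ V := fun {g h} e => by
      have : π (g * h⁻¹) = 1 := by rw [map_mul, map_inv, e, mul_inv_cancel]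
      exact (QuotientGroup.eq_one_iff _).1 this
    have hπ' : ∀ {g h : T}, ⁅g, h⁆ ∈ V ↔ π g * π h = π h * π g := fun {g h} => by
      rw [← commutatorElement_eq_one_iff_mul_comm, ← map_commutatorElement]
      exact (QuotientGroup.eq_one_iff _).symm
    have hRc : IsMulCommutative R := ⟨⟨fun a b => by
      obtain ⟨x, hx, hx'⟩ := a.2
      obtain ⟨y, hy, hy'⟩ := b.2
      apply Subtype.ext
      show (a : T ⧸ V) * b = b * a
      rw [← hx', ← hy']
      exact hπ'.1 (hZV (hcm x hx y hy))⟩⟩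
    have hKn : K.Normal := Normal.map inferInstance _ (QuotientGroup.mk'_surjective V)
    have hRK : R ≤ normalizer (K : Set (T ⧸ V)) := le_top.trans (normalizer_eq_top_iff.2 hKn).ge
    have hcop : (Nat.card R).Coprime (Nat.card K) := by
      obtain ⟨a, ha⟩ := IsPGroup.iff_card.1 (hP.map π)
      have hcK : Nat.card K = V.relIndex Kf := by
        rw [hK]
        conv_rhs => rw [← QuotientGroup.ker_mk' V]
        exact (Subgroup.relIndex_ker Kf π).symm
      rw [hR, ha, hcK]
      exact hKc.symm.pow_left a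
    have hRnc : ¬ IsCyclic R := by
      intro hcyc
      obtain ⟨⟨_, g, hg, rfl⟩, hgen'⟩ := hcyc.exists_zpow_surjective
      obtain ⟨y, hy, hy'⟩ := hB g hg
      obtain ⟨j, hj⟩ := hgen' ⟨π y, mem_map_of_mem π hy⟩
      refine hy' j (hπ ?_)
      rw [map_zpow]
      exact (congrArg Subtype.val hj).symm
    -- some cocyclic fixed point moves `R`
    obtain ⟨B, hB', k, hk, r, hr, hkr⟩ : ∃ B ∈ Coprime.Cocyclic R, ∃ k ∈ K ⊓ centralizer (B : Set (T ⧸ V)),
        ∃ r ∈ R, k * r ≠ r * k := by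
      by_contra hno
      push Not at hno
      have hKC : K ≤ centralizer (R : Set (T ⧸ V)) := by
        rw [← Coprime.iSup_cocyclic_centralizer_eq hRK hcop]
        exact iSup₂_le fun B hB k hk => mem_centralizer_iff.2 fun r hr => (hno B hB k hk r hr).symm
      refine hne fun x hx => hPK x hx (hcentK x fun k hk => hπ'.2 ?_)
      exact (mem_centralizer_iff.1 (hKC (mem_map_of_mem π hk)) _ (mem_map_of_mem π hx)).symm
    obtain ⟨hBR, a, haR, hsup⟩ := hB'
    obtain ⟨xa, hxa, rfl⟩ := haR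
    obtain ⟨k0, hk0, rfl⟩ := hk.1
    set S : Subgroup T := P ⊓ B.comap π with hS
    have hVS : V ≤ S := fun v hv => ⟨hVP hv, by
      show π v ∈ B
      rw [show π v = 1 from (QuotientGroup.eq_one_iff v).2 hv]
      exact one_mem _⟩
    have hcovS : ∀ y ∈ P, ∃ j : ℤ, y * (xa ^ j)⁻¹ ∈ S := by
      intro y hy
      have hy' : π y ∈ B ⊔ zpowers (π xa) := hsup.symm ▸ mem_map_of_mem π hy
      have hn : zpowers (π xa) ≤ normalizer (B : Set (T ⧸ V)) := zpowers_le.2
        (centralizer_le_normalizer _ (mem_centralizer_iff.2 fun b hb =>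
          congrArg Subtype.val (hRc.is_comm.comm ⟨b, hBR hb⟩ ⟨π xa, mem_map_of_mem π hxa⟩)))
      rw [← SetLike.mem_coe, coe_mul_of_right_le_normalizer_left _ _ hn] at hy'
      obtain ⟨b, hb, w, hw, hbw⟩ := hy'
      obtain ⟨j, rfl⟩ := mem_zpowers_iff.1 hw
      refine ⟨j, mem_inf.2 ⟨P.mul_mem hy (P.inv_mem (zpow_mem hxa j)), ?_⟩⟩
      show π (y * (xa ^ j)⁻¹) ∈ B
      rw [map_mul, map_inv, map_zpow, ← hbw]
      simpa using hb
    have hk0s : ∀ s ∈ S, ⁅k0, s⁆ ∈ V := fun s hs =>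
      hπ'.2 (mem_centralizer_iff.1 hk.2 _ hs.2).symm
    by_cases hex : ∃ u ∈ V, (∀ s ∈ S, u * s = s * u) ∧ u * xa ≠ xa * u
    · obtain ⟨u, hu, hus, hux⟩ := hex
      obtain ⟨-, hZc⟩ := hgen S xa u inf_le_left hxa hcovS hu hus hux
      -- every element outside `V` generates `Z` by commutation
      have hKN : Kf ≤ normalizer (Z : Set T) := by
        have hle : K ≤ (normalizer (Z : Set T)).map π := by
          rw [← Coprime.iSup_centralizer_eq (A := R) hRnc hRK hcop]
          refine iSup₂_le fun b hb => ?_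
          rintro _ ⟨⟨g, hg, rfl⟩, hgc⟩
          obtain ⟨⟨y, hy, rfl⟩, hb1⟩ := hb
          have hyV : y ∉ V := fun h => hb1 ((QuotientGroup.eq_one_iff y).2 h)
          obtain ⟨v, hv, hvy⟩ : ∃ v ∈ V, v * y ≠ y * v := by
            by_contra h
            push Not at h
            exact hyV (hCV (mem_centralizer_iff.2 h))
          refine mem_map_of_mem π (hnorm g fun z hz => ?_)
          have hc0 : ⁅v, y⁆ ≠ 1 := fun h => hvy (commutatorElement_eq_one_iff_mul_comm.1 h)
          have hZv : zpowers ⁅v, y⁆ = Z := by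
            have := Fact.mk hp.out
            exact eq_of_le_of_card_ge (zpowers_le.2 (hcm v (hVP hv) y hy)) (by
              rw [hZc]
              refine Nat.le_of_dvd Nat.card_pos ?_
              obtain ⟨i, hi⟩ := IsPGroup.iff_card.1 ((hP.to_le hVP).to_le
                ((zpowers_le.2 (hcm v (hVP hv) y hy)).trans hZV))
              rw [hi]
              refine dvd_pow_self p fun hi0 => hc0 ?_
              rw [hi0, pow_zero, Nat.card_zpowers, orderOf_eq_one_iff] at hi
              exact hi)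
          rw [← hZv] at hz
          obtain ⟨j, rfl⟩ := mem_zpowers_iff.1 hz
          rw [← conj_zpow]
          refine zpow_mem ?_ j
          have hgy : ⁅g, y⁆ ∈ V := hπ'.2 (mem_centralizer_singleton_iff.1 hgc)
          have hv' : g * v * g⁻¹ ∈ V := Normal.conj_mem inferInstance v hv g
          have hy' : g * y * g⁻¹ ∈ P := by
            have : g * y * g⁻¹ = ⁅g, y⁆ * y := by simp [commutatorElement_def, mul_assoc]
            rw [this]; exact mul_mem (hVP hgy) hy
          have e : g * ⁅v, y⁆ * g⁻¹ = ⁅g * v * g⁻¹, g * y * g⁻¹⁆ := by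
            simp [commutatorElement_def, mul_assoc]
          rw [e]
          exact hcm _ (hVP hv') _ hy'
        intro g hg
        obtain ⟨n, hn, hng⟩ := hle (mem_map_of_mem π hg)
        have h1 : g * n⁻¹ ∈ V := hπ hng.symm
        have h2 : g * n⁻¹ ∈ normalizer (Z : Set T) := centralizer_le_normalizer _
          (mem_centralizer_iff.2 fun z hz => hcen _ (hZV hz) _ h1)
        simpa using mul_mem h2 hn
      exact hne fun x hx => hPK x hx (hcentK x fun k hk => star k hk (hKN hk) x hx)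
    · push Not at hex
      have hkN : k0 ∈ normalizer (Z : Set T) := by
        refine hnorm k0 fun z hz => ?_
        have hzV : k0 * z * k0⁻¹ ∈ V := Normal.conj_mem inferInstance z (hZV hz) k0
        have hS' : ∀ s ∈ S, k0 * z * k0⁻¹ * s = s * (k0 * z * k0⁻¹) := by
          intro s hs
          have hv : k0⁻¹ * s * k0 * s⁻¹ ∈ V := by
            have := Normal.conj_mem (H := V) inferInstance _ (inv_mem (hk0s s hs)) k0⁻¹
            have e : k0⁻¹ * ⁅k0, s⁆⁻¹ * k0⁻¹⁻¹ = k0⁻¹ * s * k0 * s⁻¹ := by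
              simp [commutatorElement_def, mul_assoc]
            rwa [e] at this
          have hc1 : z * (k0⁻¹ * s * k0) = (k0⁻¹ * s * k0) * z := by
            calc z * (k0⁻¹ * s * k0) = z * (k0⁻¹ * s * k0 * s⁻¹) * s := by group
              _ = (k0⁻¹ * s * k0 * s⁻¹) * (z * s) := by rw [hcen _ (hZV hz) _ hv, mul_assoc]
              _ = _ := by rw [← hc z hz s hs.1]; group
          calc k0 * z * k0⁻¹ * s = k0 * (z * (k0⁻¹ * s * k0)) * k0⁻¹ := by group
            _ = k0 * ((k0⁻¹ * s * k0) * z) * k0⁻¹ := by rw [hc1]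
            _ = _ := by group
        have hx' := hex _ hzV hS'
        refine hrad ⊥ (bot_lt_iff_ne_bot.2 fun h0 => hne fun x hx => hCV (mem_centralizer_iff.2
          fun v hv => commutatorElement_eq_one_iff_mul_comm.1
            (mem_bot.1 (h0 ▸ hcm v (hVP hv) x hx)))) _ (hVP hzV) fun y hy => ?_
        rw [mem_bot]
        obtain ⟨j, hj⟩ := hcovS y hy
        apply hone
        have c1 : Commute (k0 * z * k0⁻¹) (y * (xa ^ j)⁻¹) := hS' _ hj
        have c2 : Commute (k0 * z * k0⁻¹) (xa ^ j) := Commute.zpow_right hx' j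
        have := c1.mul_right c2
        rwa [inv_mul_cancel_right] at this
      obtain ⟨y, hy, rfl⟩ := hr
      exact hkr (hπ'.1 (star k0 hk0 hkN y hy))
  -- the case `P = V⟨x⟩`
  have hxV : x ∉ V := fun h => hne fun y hy => by
    obtain ⟨j, hj⟩ := hcov y hy
    simpa using mul_mem hj (zpow_mem h j)
  obtain ⟨u, hu, hux⟩ : ∃ u ∈ V, u * x ≠ x * u := by
    by_contra h
    push Not at h
    exact hxV (hCV (mem_centralizer_iff.2 h))
  obtain ⟨hZu, hZc⟩ := hgen V x u hVP hxP hcov hu (fun s hs => hcen u hu s hs) hux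
  have hVrel : V.relIndex P = p := by
    let μ : P →* T ⧸ V := (QuotientGroup.mk' V).comp P.subtype
    have hrng : μ.range = zpowers ((x : T) : T ⧸ V) := by
      refine le_antisymm ?_ (zpowers_le.2 ⟨⟨x, hxP⟩, rfl⟩)
      rintro _ ⟨⟨y, hy⟩, rfl⟩
      obtain ⟨j, hj⟩ := hcov y hy
      refine ⟨j, ?_⟩
      show ((x : T) : T ⧸ V) ^ j = (y : T ⧸ V)
      rw [← QuotientGroup.mk_zpow, eq_comm, QuotientGroup.eq]
      have := Normal.conj_mem (H := V) inferInstance _ (inv_mem hj) y⁻¹
      simpa [mul_assoc] using this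
    have hker : μ.ker = V.subgroupOf P := by
      ext y; exact QuotientGroup.eq_one_iff (y : T)
    rw [relIndex, ← hker, index_ker, hrng, Nat.card_zpowers]
    refine orderOf_eq_prime ?_ fun h => hxV ((QuotientGroup.eq_one_iff x).1 h)
    rw [← QuotientGroup.mk_pow, QuotientGroup.eq_one_iff]
    exact hZV (hpw x hxP)
  have hZrel : Z.relIndex V = p := by
    let φ : V →* T := MonoidHom.mk' (fun v => ⁅(v : T), x⁆) fun a b =>
      hbl _ (hVP a.2) _ (hVP b.2) _ hxP
    have hrng : φ.range = Z := by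
      refine le_antisymm ?_ (hZu.le.trans (zpowers_le.2 ⟨⟨u, hu⟩, rfl⟩))
      rintro _ ⟨v, rfl⟩
      exact hcm _ (hVP v.2) _ hxP
    have hker : φ.ker = Z.subgroupOf V := by
      ext ⟨v, hv⟩
      rw [MonoidHom.mem_ker, mem_subgroupOf]
      show ⁅v, x⁆ = 1 ↔ v ∈ Z
      refine ⟨fun h => ?_, fun h => hone _ _ (hc v h x hxP).symm⟩
      refine hrad ⊥ (bot_lt_iff_ne_bot.2 fun h0 => ?_) v (hVP hv) fun y hy => ?_
      · rw [h0, Subgroup.card_bot] at hZc; exact hp.out.one_lt.ne hZc
      obtain ⟨j, hj⟩ := hcov y hy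
      rw [mem_bot]
      apply hone
      have c1 : Commute v (y * (x ^ j)⁻¹) := hcen v hv _ hj
      have c2 : Commute v (x ^ j) := Commute.zpow_right (commutatorElement_eq_one_iff_mul_comm.1 h) j
      have := c1.mul_right c2
      rwa [inv_mul_cancel_right] at this
    rw [relIndex, ← hker, index_ker, hrng, hZc]
  refine ⟨?_, hVrel, ?_⟩
  · rw [← relIndex_mul_relIndex Z V P hZV hVP, hZrel, hVrel, sq]
  by_contra h3
  have h2 : p ≠ 2 := by omega
  obtain ⟨a, ha⟩ := IsPGroup.iff_card.1 (hP.to_le hVP)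
  have hcV : (Nat.card (V.subgroupOf Kf)).Coprime (V.subgroupOf Kf).index := by
    rw [Nat.card_congr (subgroupOfEquivOfLe hVK).toEquiv, ha]
    exact hKc.symm.pow_left a
  obtain ⟨Q', hQ'⟩ := exists_right_complement'_of_coprime hcV
  set Q : Subgroup T := Q'.map Kf.subtype with hQ
  have hQK : Q ≤ Kf := map_subtype_le _
  have hQcard : Nat.card Q = V.relIndex Kf := by
    rw [hQ, card_map_of_injective Kf.subtype_injective]
    exact hQ'.symm.index_eq_card.symm
  have hQcop : (Nat.card Q).Coprime p := hQcard ▸ hKc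
  have hVQ : V ⊓ Q = ⊥ := Coprime.inf_eq_bot_of_coprime (ha ▸ hQcop.symm.pow_left a)
  have hVQK : V ⊔ Q = Kf := by
    refine le_antisymm (sup_le hVK hQK) ?_
    have h := hQ'.sup_eq_top
    have h' := congrArg (Subgroup.map Kf.subtype) h
    rw [Subgroup.map_sup, ← MonoidHom.range_eq_map, range_subtype, map_subgroupOf_eq_of_le hVK] at h'
    exact h'.ge
  have hC0 : V ⊓ normalizer (Q : Set T) = ⊥ := by
    by_contra hne0
    have hcen0 : ∀ v ∈ V ⊓ normalizer (Q : Set T), ∀ k ∈ Kf, k * v = v * k := by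
      rintro v ⟨hv, hvN⟩ k hk
      have hvQ : ∀ q ∈ Q, q * v = v * q := fun q hq => by
        have h1 : ⁅v, q⁆ ∈ V ⊓ Q := mem_inf.2 ⟨by
          have e : ⁅v, q⁆ = v * (q * v⁻¹ * q⁻¹) := by simp [commutatorElement_def, mul_assoc]
          rw [e]; exact mul_mem hv (Normal.conj_mem inferInstance _ (inv_mem hv) q),
          Q.mul_mem ((mem_normalizer_iff.1 hvN q).1 hq) (Q.inv_mem hq)⟩
        rw [hVQ, mem_bot, commutatorElement_eq_one_iff_mul_comm] at h1
        exact h1.symm
      have hle : Kf ≤ centralizer ({v} : Set T) := by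
        rw [← hVQK]
        exact sup_le (fun w hw => mem_centralizer_singleton_iff.2 (hcen w hw v hv))
          fun q hq => mem_centralizer_singleton_iff.2 (hvQ q hq)
      exact mem_centralizer_singleton_iff.1 (hle hk)
    set C0 : Subgroup T := V ⊓ centralizer (Kf : Set T) with hC0'
    have hC0ne : C0 ≠ ⊥ := by
      intro h0
      exact hne0 (le_bot_iff.1 fun v hv => h0 ▸ (⟨hv.1, mem_centralizer_iff.2 (hcen0 v hv)⟩ : v ∈ C0))
    have hZC : Z ≤ C0 := by
      -- the `p`-group `P` fixes a point of `C0`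
      obtain ⟨w, hw, hw1, hwP⟩ : ∃ w ∈ C0, w ≠ 1 ∧ ∀ y ∈ P, y * w = w * y := by
        have hlt : ⁅C0, P⁆ ≤ C0 ⊓ Z := by
          refine le_inf ?_ ?_
          · have hC0n : C0.Normal := inferInstance
            exact commutator_le_left _ _
          · rw [commutator_le]
            exact fun c hc' y hy => hcm c (hVP hc'.1) y hy
        by_cases h0 : ⁅C0, P⁆ = ⊥
        · obtain ⟨w, hw, hw1⟩ := (bot_or_exists_ne_one C0).resolve_left hC0ne
          exact ⟨w, hw, hw1, fun y hy => (mem_centralizer_iff.1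
            ((commutator_eq_bot_iff_le_centralizer.1 h0) hw) y hy)⟩
        · obtain ⟨w, hw, hw1⟩ := (bot_or_exists_ne_one _).resolve_left h0
          exact ⟨w, (hlt hw).1, hw1, fun y hy => hc w (hlt hw).2 y hy⟩
      have hwZ : w ∈ Z := hrad ⊥ (bot_lt_iff_ne_bot.2 fun h0 => by
          rw [h0, Subgroup.card_bot] at hZc; exact hp.out.one_lt.ne hZc) w (hVP hw.1)
        fun y hy => by rw [mem_bot]; exact hone _ _ (hwP y hy).symm
      have := Fact.mk hp.out
      have hzw : zpowers w = Z := eq_of_le_of_card_ge (zpowers_le.2 hwZ) (by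
        rw [hZc, Nat.card_zpowers]
        exact (orderOf_eq_prime (hexp w hw.1) hw1).ge)
      exact hzw ▸ zpowers_le.2 hw
    have hKN : Kf ≤ normalizer (Z : Set T) := fun k hk => centralizer_le_normalizer _
      (mem_centralizer_iff.2 fun z hz => ((mem_centralizer_iff.1 (hZC hz).2 k hk)).symm)
    exact hne fun y hy => hPK y hy (hcentK y fun k hk => star k hk (hKN hk) y hy)
  -- an element of `xV` normalising `Q`
  obtain ⟨n, hn, hnQ⟩ := Coprime.exists_conj_of_sup_eq (N := V) (H := MulAut.conj x • Q) (K := Q)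
    (le_top.trans (normalizer_eq_top_iff.2 inferInstance).ge)
    (Coprime.inf_eq_bot_of_coprime (by
      rw [Coprime.card_conj_smul]; exact ha ▸ hQcop.symm.pow_left a))
    hVQ (by
      have h1 : MulAut.conj x • (V ⊔ Q) = V ⊔ Q := by
        rw [hVQK]; exact Normal.conjAct inferInstance x
      conv_rhs => rw [← h1, smul_sup]
      rw [show MulAut.conj x • V = V from Normal.conjAct inferInstance x])
    (by rw [Coprime.card_conj_smul]; exact ha ▸ hQcop.symm.pow_left a)
    (Or.inl (Group.isSolvable_of_comm fun a b => IsMulCommutative.is_comm.comm a b))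
  rw [← mul_smul, ← map_mul] at hnQ
  set x' := n * x with hx'
  have hx'P : x' ∈ P := mul_mem (hVP hn) hxP
  have hx'N : x' ∈ normalizer (Q : Set T) := Coprime.mem_normalizer_of_conj_smul_eq hnQ
  have hQH : Q ≤ normalizer (Q : Set T) := le_normalizer
  have hf : normalizer (Q : Set T) ⊓ centralizer (V : Set T) = ⊥ := by
    rw [inf_comm, ← le_bot_iff, ← hC0]
    exact inf_le_inf_right _ hCV
  have hquad : ⁅⁅V, zpowers x'⁆, zpowers x'⁆ = ⊥ := by
    rw [← le_bot_iff, commutator_le]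
    intro a ha' b hb
    rw [mem_bot]
    have haZ : a ∈ Z := by
      have : ⁅V, zpowers x'⁆ ≤ Z := by
        rw [commutator_le]
        exact fun v hv w hw => hcm v (hVP hv) w (zpowers_le.2 hx'P hw)
      exact this ha'
    exact hone _ _ (hc a haZ b (zpowers_le.2 hx'P hb)).symm
  have hQa : ⁅Q, zpowers x'⁆ ≠ ⊥ := by
    intro h0
    have hx'K : x' ∈ Kf := hcentK x' fun k hk => by
      rw [← hVQK] at hk
      rw [← SetLike.mem_coe, normal_mul] at hk
      obtain ⟨v, hv, q, hq, rfl⟩ := hk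
      have hq' : q * x' = x' * q :=
        (mem_centralizer_iff.1 ((commutator_eq_bot_iff_le_centralizer.1 h0) hq) x' (mem_zpowers x')).symm
      have e : ⁅v * q, x'⁆ = ⁅v, x'⁆ := by
        simp only [commutatorElement_def]
        rw [show v * q * x' = v * (q * x') by group, hq']
        group
      show ⁅v * q, x'⁆ ∈ V
      rw [e]
      exact hZV (hcm v (hVP hv) x' hx'P)
    have h1 := mul_mem (inv_mem hn) (hPK x' hx'P hx'K)
    rw [hx', inv_mul_cancel_left] at h1
    exact hxV h1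
  have hEA : Cfsg.IsElementaryAbelian p V := ⟨inferInstance, hexp⟩
  obtain ⟨h33, -⟩ := QdFree.eq_three_and_section_of_coprime h2 V (normalizer (Q : Set T)) hEA
    (le_top.trans (normalizer_eq_top_iff.2 inferInstance).ge) hf hx'N hquad Q hQH hx'N hQcop hQa
  omega

end Cfsg.Agent.PLenShape
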