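import Cfsg.Prelude.Def_SolvableStructure
import Cfsg.Agent.Core.MinimalNonNilpotent
import Cfsg.Agent.OddLocal.Basic

/-!
The shape of the normal Sylow subgroup of a minimal non-nilpotent group.
-/

set_option autoImplicit false

open Subgroup
open scoped commutatorElement

namespace Cfsg.Agent.PLenShape

/-- A central `Z` containing commutators and `p`th powers, the radical of every nonzero piece of
the commutator form lying in `Z`, and with restrictions when `|P : Z| = p²`. -/
def Shape (p : ℕ) (P : Type*) [Group P] : Prop :=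
  ∃ Z : Subgroup P, (∀ z ∈ Z, ∀ x : P, x * z = z * x) ∧ (∀ x y : P, ⁅x, y⁆ ∈ Z) ∧
    (∀ x : P, x ^ p ∈ Z) ∧
    (∀ W : Subgroup P, W < Z → ∀ u : P, (∀ x : P, ⁅u, x⁆ ∈ W) → u ∈ Z) ∧
    (Z.index = p ^ 2 → p ≠ 3 ∧ (p = 2 → ∀ W : Subgroup P, W < Z → ∀ x : P, x ∉ Z → x ^ 2 ∉ W))

theorem shape_congr {p : ℕ} {P : Type*} [Group P] {Q : Type*} [Group Q] (e : Q ≃* P)
    (h : Shape p P) : Shape p Q := by
  obtain ⟨Z, hc, hcm, hpw, hrad, hsm⟩ := h
  have hmap : ∀ W : Subgroup Q, W < Z.comap e.toMonoidHom → W.map e.toMonoidHom < Z := by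
    intro W hW
    refine lt_of_le_of_ne (map_le_iff_le_comap.2 hW.le) fun hh => hW.ne ?_
    rw [← hh, comap_map_eq_self_of_injective]
    exact e.injective
  refine ⟨Z.comap e.toMonoidHom, fun z hz x => e.injective ?_, fun x y => ?_, fun x => ?_,
    fun W hW u hu => ?_, fun hi => ?_⟩
  · rw [map_mul, map_mul]; exact hc _ hz _
  · show e ⁅x, y⁆ ∈ Z
    rw [map_commutatorElement]; exact hcm _ _
  · show e (x ^ p) ∈ Z
    rw [map_pow]; exact hpw _
  · refine hrad _ (hmap W hW) (e u) fun x => ?_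
    exact ⟨_, hu (e.symm x), by simp [map_commutatorElement]⟩
  · rw [index_comap_of_surjective _ e.surjective] at hi
    obtain ⟨h3, h2⟩ := hsm hi
    refine ⟨h3, fun hp W hW x hx hx2 => h2 hp _ (hmap W hW) (e x) hx ?_⟩
    exact ⟨_, hx2, by simp⟩

section Operator

variable {P : Type*} [Group P] [Finite P] {p q : ℕ} [hp : Fact p.Prime] [hq : Fact q.Prime]

/-- A `p`-group with an automorphism of prime order `q ≠ p` fixing every invariant proper
subgroup is abelian or has the shape. -/
theorem shape_of_operator (hP : IsPGroup p P) (hpq : p ≠ q) (hne : Nontrivial P) (α : MulAut P)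
    (hα1 : α ≠ 1) (hαq : α ^ q = 1)
    (hinv : ∀ L : Subgroup P, (∀ x ∈ L, α x ∈ L) → L ≠ ⊤ → ∀ x ∈ L, α x = x) :
    IsMulCommutative P ∨ Shape p P := by
  by_cases hab : IsMulCommutative P
  · exact Or.inl hab
  right
  have : Group.IsNilpotent P := hP.isNilpotent
  set Z : Subgroup P := α.toMonoidHom.eqLocus (MonoidHom.id P) with hZdef
  have memZ : ∀ {x : P}, x ∈ Z ↔ α x = x := Iff.rfl
  have hZtop : Z ≠ ⊤ := fun h => hα1 (MulEquiv.ext fun x => memZ.1 (h ▸ mem_top x))
  have hΦtop : frattini P ≠ ⊤ := fun h => by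
    obtain ⟨M, hM, -⟩ := (eq_top_or_exists_le_coatom (⊥ : Subgroup P)).resolve_left bot_ne_top
    exact hM.1 (top_le_iff.1 (h ▸ frattini_le_coatom hM))
  have hΦZ : frattini P ≤ Z := fun x hx => hinv _ (fun y hy => by
    have h := (Subgroup.characteristic_iff_map_eq.1 (frattini_characteristic (G := P))) α
    rw [← h]; exact mem_map_of_mem _ hy) hΦtop x hx
  have hcm : ∀ x y : P, ⁅x, y⁆ ∈ Z := fun x y =>
    hΦZ (Core.commutator_le_frattini (commutator_mem_commutator (mem_top x) (mem_top y)))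
  have hpw : ∀ x : P, x ^ p ∈ Z := fun x => hΦZ (Core.pow_mem_frattini hP x)
  -- the elements `x⁻¹ α(x)` generate
  set D : Subgroup P := closure (Set.range fun x : P => x⁻¹ * α x) with hDdef
  have hDinv : ∀ x ∈ D, α x ∈ D := by
    intro x hx
    have : D.map α.toMonoidHom ≤ D := by
      rw [hDdef, MonoidHom.map_closure, closure_le]
      rintro _ ⟨_, ⟨y, rfl⟩, rfl⟩
      exact subset_closure ⟨α y, by simp⟩
    exact this (mem_map_of_mem _ hx)
  have hD : D = ⊤ := by
    by_contra h
    apply hα1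
    ext x
    have hfix : α (x⁻¹ * α x) = x⁻¹ * α x := hinv D hDinv h _ (subset_closure ⟨x, rfl⟩)
    have hpow : ∀ n : ℕ, (α ^ n) x = x * (x⁻¹ * α x) ^ n := by
      obtain ⟨c, hc'⟩ : ∃ c, α x = x * c := ⟨x⁻¹ * α x, by group⟩
      rw [hc', inv_mul_cancel_left] at hfix ⊢
      intro n
      induction n with
      | zero => simp
      | succ n ih => rw [pow_succ', MulAut.mul_apply, ih, map_mul, map_pow, hfix, hc', mul_assoc, ← pow_succ']
    have h1 := hpow q
    rw [hαq, MulAut.one_apply, eq_comm, mul_eq_left] at h1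
    have hcop : (orderOf (x⁻¹ * α x)).Coprime q := by
      obtain ⟨k, hk⟩ := IsPGroup.iff_orderOf.1 hP (x⁻¹ * α x)
      exact (((Nat.coprime_primes hp.out hq.out).2 hpq).pow_left k).coprime_dvd_left hk.dvd
    have h2 : x⁻¹ * α x = 1 := orderOf_eq_one_iff.1
      (Nat.eq_one_of_dvd_coprimes hcop dvd_rfl (orderOf_dvd_of_pow_eq_one h1))
    exact (inv_mul_eq_one.1 h2).symm
  have hc : ∀ z ∈ Z, ∀ x : P, x * z = z * x := by
    intro z hz x
    have key : ∀ w : P, Commute (w⁻¹ * α w) z := fun w => by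
      have h1 : α ⁅w, z⁆ = ⁅w, z⁆ := hcm w z
      rw [map_commutatorElement, memZ.1 hz] at h1
      simp only [commutatorElement_def] at h1
      have h1' : α w * z * (α w)⁻¹ = w * z * w⁻¹ := mul_right_cancel h1
      show w⁻¹ * α w * z = z * (w⁻¹ * α w)
      calc w⁻¹ * α w * z = w⁻¹ * (α w * z * (α w)⁻¹) * α w := by group
        _ = w⁻¹ * (w * z * w⁻¹) * α w := by rw [h1']
        _ = z * (w⁻¹ * α w) := by group
    have hx : x ∈ D := hD ▸ mem_top x
    rw [hDdef] at hx
    induction hx using closure_induction with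
    | mem y hy => obtain ⟨w, rfl⟩ := hy; exact key w
    | one => simp
    | mul a b _ _ ha hb => exact (Commute.mul_left ha hb : Commute (a * b) z)
    | inv a _ ha => exact (Commute.inv_left ha : Commute a⁻¹ z)
  -- `Z` is the derived subgroup
  set C := commutator P with hCdef
  have hCZ : C ≤ Z := by
    rw [hCdef, commutator_eq_closure, closure_le]
    rintro _ ⟨x, y, rfl⟩; exact hcm x y
  have hCα : ∀ x ∈ C, α x ∈ C := fun x hx => by rw [memZ.1 (hCZ hx)]; exact hx
  let π := QuotientGroup.mk' C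
  have hcomm : ∀ a b : P ⧸ C, a * b = b * a := by
    intro a b
    obtain ⟨a, rfl⟩ := QuotientGroup.mk'_surjective C a
    obtain ⟨b, rfl⟩ := QuotientGroup.mk'_surjective C b
    rw [← map_mul, ← map_mul, QuotientGroup.mk'_apply, QuotientGroup.mk'_apply, QuotientGroup.eq]
    have : (a * b)⁻¹ * (b * a) = ⁅b⁻¹, a⁻¹⁆ := by simp [commutatorElement_def, mul_assoc]
    rw [this]
    exact commutator_mem_commutator (mem_top _) (mem_top _)
  let β : P ⧸ C →* P ⧸ C := QuotientGroup.map C C α.toMonoidHom hCα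
  let δ : P ⧸ C →* P ⧸ C :=
    { toFun := fun a => a⁻¹ * β a
      map_one' := by simp
      map_mul' := fun a b => by
        rw [map_mul, mul_inv_rev, hcomm b⁻¹ a⁻¹]
        calc a⁻¹ * b⁻¹ * (β a * β b) = a⁻¹ * (b⁻¹ * β a) * β b := by group
          _ = _ := by rw [hcomm b⁻¹ (β a)]; group }
  have hδ : Function.Injective δ := by
    refine Finite.injective_iff_surjective.2 (MonoidHom.range_eq_top.1 ?_)
    rw [eq_top_iff]
    intro a _
    obtain ⟨x, rfl⟩ := QuotientGroup.mk'_surjective C a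
    have hx : x ∈ D := hD ▸ mem_top x
    have : D ≤ δ.range.comap π := by
      rw [hDdef, closure_le]
      rintro _ ⟨y, rfl⟩
      exact ⟨π y, rfl⟩
    exact this hx
  have hfixed : ∀ x : P, x⁻¹ * α x ∈ C → x ∈ C := by
    intro x hx
    have h : δ (π x) = δ 1 := by
      rw [map_one]
      exact (QuotientGroup.eq_one_iff (x⁻¹ * α x)).2 hx
    exact (QuotientGroup.eq_one_iff x).1 (hδ h)
  have hZC : Z = C := le_antisymm (fun z hz => hfixed z (by
    rw [memZ.1 hz, inv_mul_cancel]; exact one_mem _)) hCZ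
  have hinvZ : ∀ L : Subgroup P, Z ≤ L → (∀ x ∈ L, α x ∈ L) → L = Z ∨ L = ⊤ := by
    intro L hle hL
    by_cases h : L = ⊤
    · exact Or.inr h
    · exact Or.inl (le_antisymm (fun x hx => hinv L hL h x hx) hle)
  have hrad : ∀ W : Subgroup P, W < Z → ∀ u : P, (∀ x : P, ⁅u, x⁆ ∈ W) → u ∈ Z := by
    intro W hW u hu
    have hWc : ∀ w ∈ W, ∀ x : P, x * w * x⁻¹ = w := fun w hw x => by
      rw [hc w (hW.le hw) x, mul_inv_cancel_right]
    let R : Subgroup P :=
      { carrier := {r | ∀ x : P, ⁅r, x⁆ ∈ W}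
        one_mem' := fun x => by rw [commutatorElement_one_left]; exact one_mem _
        mul_mem' := fun {a b} ha hb x => by
          have : ⁅a * b, x⁆ = a * ⁅b, x⁆ * a⁻¹ * ⁅a, x⁆ := by simp [commutatorElement_def, mul_assoc]
          rw [this, hWc _ (hb x) a]
          exact mul_mem (hb x) (ha x)
        inv_mem' := fun {a} ha x => by
          have e : ⁅a⁻¹, x⁆ = a⁻¹ * ⁅a, x⁆⁻¹ * a⁻¹⁻¹ := by
            simp [commutatorElement_def, mul_assoc]
          rw [e, hWc _ (inv_mem (ha x))]
          exact inv_mem (ha x) }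
    have hZR : Z ≤ R := fun z hz x => by
      rw [commutatorElement_eq_one_iff_mul_comm.2 (hc z hz x).symm]; exact one_mem _
    rcases hinvZ R hZR (fun r hr x => by
      obtain ⟨x, rfl⟩ := α.surjective x
      rw [← map_commutatorElement, memZ.1 (hW.le (hr x))]
      exact hr x) with h | h
    · exact h ▸ (hu : u ∈ R)
    · refine absurd ?_ hW.not_ge
      rw [hZC, hCdef, commutator_eq_closure, closure_le]
      rintro _ ⟨a, b, rfl⟩
      exact (h ▸ mem_top a : a ∈ R) b
  refine ⟨Z, hc, hcm, hpw, hrad, fun hi => ?_⟩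
  have hZn : Z.Normal := ⟨fun z hz x => by rw [hc z hz x, mul_inv_cancel_right]; exact hz⟩
  have hfixZ : ∀ x : P, x⁻¹ * α x ∈ Z → x ∈ Z := fun x hx => hZC ▸ hfixed x (hZC ▸ hx)
  -- no invariant line
  have hline : ∀ x : P, x ∉ Z → α x ∉ Z ⊔ zpowers x := by
    intro x hx hax
    rcases hinvZ (Z ⊔ zpowers x) le_sup_left (fun y hy => by
      obtain ⟨z, hz, w, hw, rfl⟩ := mem_sup_of_normal_left.1 hy
      obtain ⟨j, rfl⟩ := mem_zpowers_iff.1 hw
      rw [map_mul, map_zpow, memZ.1 hz]
      exact mul_mem (mem_sup_left hz) (zpow_mem hax j)) with h | h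
    · exact hx (h ▸ mem_sup_right (mem_zpowers x))
    · refine hab ⟨⟨fun a b => ?_⟩⟩
      obtain ⟨z, hz, w, hw, rfl⟩ := mem_sup_of_normal_left.1 (h ▸ mem_top a)
      obtain ⟨z', hz', w', hw', rfl⟩ := mem_sup_of_normal_left.1 (h ▸ mem_top b)
      obtain ⟨i, rfl⟩ := mem_zpowers_iff.1 hw
      obtain ⟨j, rfl⟩ := mem_zpowers_iff.1 hw'
      have c1 : Commute z (z' * x ^ j) := (hc z hz _).symm
      have c2 : Commute (x ^ i) (z' * x ^ j) :=
        Commute.mul_right (hc z' hz' _) (Commute.zpow_zpow_self x i j)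
      exact c1.mul_left c2
  refine ⟨?_, ?_⟩
  · rintro rfl
    let σ : Equiv.Perm (P ⧸ Z) :=
      (QuotientGroup.congr Z Z α (by
        refine le_antisymm (map_le_iff_le_comap.2 fun z hz => ?_) fun z hz => ⟨z, hz, memZ.1 hz⟩
        show α z ∈ Z
        rw [memZ.1 hz]; exact hz)).toEquiv
    have hσ : ∀ x : P, σ (x : P ⧸ Z) = ((α x : P) : P ⧸ Z) := fun x => rfl
    have hσn : ∀ (n : ℕ) (x : P), (σ ^ n) (x : P ⧸ Z) = (((α ^ n) x : P) : P ⧸ Z) := by
      intro n
      induction n with
      | zero => intro x; rfl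
      | succ n ih => intro x; rw [pow_succ', Equiv.Perm.mul_apply, ih, hσ, pow_succ', MulAut.mul_apply]
    have hσq : σ ^ q ^ 1 = 1 := by
      rw [pow_one]
      ext a
      obtain ⟨x, rfl⟩ := QuotientGroup.mk_surjective a
      rw [hσn, hαq]; rfl
    classical
    have := Fintype.ofFinite (P ⧸ Z)
    have hmod := Equiv.Perm.card_compl_support_modEq hσq
    have hsupp : σ.supportᶜ = {(1 : P ⧸ Z)} := by
      ext a
      obtain ⟨x, rfl⟩ := QuotientGroup.mk_surjective a
      rw [Finset.mem_compl, Equiv.Perm.mem_support, not_not, Finset.mem_singleton, hσ,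
        QuotientGroup.eq_one_iff, QuotientGroup.eq]
      constructor
      · intro h
        apply hfixZ
        have := inv_mem h
        rwa [mul_inv_rev, inv_inv] at this
      · intro h
        rw [memZ.1 h, inv_mul_cancel]; exact one_mem _
    rw [hsupp, Finset.card_singleton, Fintype.card_eq_nat_card, ← index_eq_card, hi] at hmod
    have hq2 : q = 2 := by
      have h8 : q ∣ 2 ^ 3 := (Nat.modEq_iff_dvd' (by norm_num)).1 hmod
      exact (Nat.prime_dvd_prime_iff_eq hq.out Nat.prime_two).1 (hq.out.dvd_of_dvd_pow h8)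
    obtain ⟨x, hx⟩ : ∃ x, x ∉ Z := by
      by_contra h; push Not at h; exact hZtop (top_le_iff.1 fun x _ => h x)
    have hα2 : α (α x) = x := by rw [← MulAut.mul_apply, ← sq, ← hq2, hαq]; rfl
    have hxx : x * α x ∈ Z := hfixZ _ (by
      rw [map_mul, hα2]
      have : (x * α x)⁻¹ * (α x * x) = ⁅(α x)⁻¹, x⁻¹⁆ := by simp [commutatorElement_def, mul_assoc]
      rw [this]; exact hcm _ _)
    refine hline x hx ?_
    have := mul_mem (inv_mem (mem_sup_right (mem_zpowers x)) : x⁻¹ ∈ Z ⊔ zpowers x)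
      (mem_sup_left (T := zpowers x) hxx)
    rwa [inv_mul_cancel_left] at this
  · rintro rfl W hW x hx hx2
    apply hW.not_ge
    rw [hZC, hCdef, commutator_eq_closure, closure_le]
    rintro _ ⟨a, b, rfl⟩
    have hsq : ∀ z ∈ Z, z ^ 2 = 1 := by
      intro z hz
      rw [hZC, hCdef, commutator_eq_closure] at hz
      induction hz using closure_induction with
      | mem y hy =>
        obtain ⟨a, b, rfl⟩ := hy
        have h1 : ⁅a, b * b⁆ = ⁅a, b⁆ * (b * ⁅a, b⁆ * b⁻¹) := by
          simp [commutatorElement_def, mul_assoc]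
        rw [hc _ (hcm a b) b, mul_inv_cancel_right, ← sq, ← sq] at h1
        rw [← h1, commutatorElement_eq_one_iff_mul_comm, hc _ (hpw b) a]
      | one => simp
      | mul u v hu hv ha hb =>
        have hv' : v ∈ Z := by rw [hZC, hCdef, commutator_eq_closure]; exact hv
        rw [Commute.mul_pow (hc v hv' u) 2, ha, hb, one_mul]
      | inv u _ ha => rw [inv_pow, ha, inv_one]
    have h1 : x⁻¹ * α x ∉ Z := fun h => hx (hfixZ x h)
    have h2 : α x ∉ Z := fun h => hx (by
      have h' : α (α x) = α x := h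
      have h'' := α.injective h'
      exact memZ.2 h'')
    have hcard : Nat.card (P ⧸ Z) = 4 := by rw [← index_eq_card, hi]; norm_num
    have hne : (x : P ⧸ Z) ≠ (α x : P) := fun h => h1 (QuotientGroup.eq.1 h)
    have hx1 : (x : P ⧸ Z) ≠ 1 := fun h => hx ((QuotientGroup.eq_one_iff x).1 h)
    have hax1 : ((α x : P) : P ⧸ Z) ≠ 1 := fun h => h2 ((QuotientGroup.eq_one_iff _).1 h)
    -- the third nontrivial coset
    have h3 : α (α x) ∉ Z ⊔ zpowers (α x) := hline _ h2
    have hy1 : ((α (α x) : P) : P ⧸ Z) ≠ (α x : P) := fun h => h3 (by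
      have := QuotientGroup.eq.1 h.symm
      have := mul_mem (mem_sup_right (S := Z) (mem_zpowers (α x))) (mem_sup_left this)
      rwa [mul_inv_cancel_left] at this)
    have hy0 : ((α (α x) : P) : P ⧸ Z) ≠ 1 := fun h => h3 (mem_sup_left ((QuotientGroup.eq_one_iff _).1 h))
    have hy2 : ((α (α x) : P) : P ⧸ Z) ≠ x := by
      intro h
      -- then `x * α x` spans an invariant subgroup
      have hz : α (x * α x) ∈ Z ⊔ zpowers (x * α x) := by
        have hh := QuotientGroup.eq.1 h.symm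
        have e : α (x * α x) = (x * α x) * (⁅(α x)⁻¹, x⁻¹⁆ * (x⁻¹ * α (α x))) := by
          simp [commutatorElement_def, mul_assoc]
        rw [e]
        exact mul_mem (mem_sup_right (mem_zpowers _)) (mem_sup_left (mul_mem (hcm _ _) hh))
      refine hline _ (fun hh => ?_) hz
      have e : x⁻¹ * α x = (x ^ 2)⁻¹ * (x * α x) := by rw [sq]; group
      exact h1 (e ▸ mul_mem (inv_mem (hpw x)) hh)
    classical
    have := Fintype.ofFinite (P ⧸ Z)
    have hall : ({1, (x : P ⧸ Z), ((α x : P) : P ⧸ Z), ((α (α x) : P) : P ⧸ Z)} : Finset (P ⧸ Z)) =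
        Finset.univ := by
      apply Finset.eq_univ_of_card
      rw [Fintype.card_eq_nat_card, hcard]
      rw [Finset.card_insert_of_notMem (by simp [hx1.symm, hax1.symm, hy0.symm]),
        Finset.card_insert_of_notMem (by simp [hne, hy2.symm]),
        Finset.card_insert_of_notMem (by simp [hy1.symm]), Finset.card_singleton]
    have hW2 : ∀ a : P, a ∉ Z → a ^ 2 = x ^ 2 := by
      intro a ha
      have hα : α (x ^ 2) = x ^ 2 := hpw x
      have hmem := Finset.mem_univ (a : P ⧸ Z)
      rw [← hall] at hmem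
      simp only [Finset.mem_insert, Finset.mem_singleton] at hmem
      have key : ∀ b : P, (a : P ⧸ Z) = b → a ^ 2 = b ^ 2 := by
        intro b hb
        have hz := QuotientGroup.eq.1 hb.symm
        have hcomm : Commute b (b⁻¹ * a) := hc _ hz b
        calc a ^ 2 = (b * (b⁻¹ * a)) ^ 2 := by rw [mul_inv_cancel_left]
          _ = _ := by rw [hcomm.mul_pow, hsq _ hz, mul_one]
      rcases hmem with h | h | h | h
      · exact absurd ((QuotientGroup.eq_one_iff a).1 h) ha
      · exact key _ h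
      · rw [key _ h, ← map_pow, hα]
      · rw [key _ h, ← map_pow, ← map_pow, hα, hα]
    have hW1 : ∀ a : P, a ^ 2 ∈ W := by
      intro a
      by_cases ha : a ∈ Z
      · rw [hsq a ha]; exact one_mem _
      · rw [hW2 a ha]; exact hx2
    -- squares in `W` put commutators in `W`
    have e : ⁅a, b⁆ = a ^ 2 * (a⁻¹ * b) ^ 2 * (b ^ 2)⁻¹ := by
      simp only [commutatorElement_def, sq]; group
    rw [e]
    exact mul_mem (mul_mem (hW1 _) (hW1 _)) (inv_mem (hW1 _))

end Operator

/-- The normal Sylow subgroup of a minimal non-nilpotent group. -/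
theorem comm_or_shape {X : Type*} [Group X] [Finite X] {p : ℕ} [Fact p.Prime]
    (hX : Cfsg.IsMinimalNonNilpotent X) (P : Sylow p X) (hPn : (P : Subgroup X).Normal)
    (hP1 : (P : Subgroup X) ≠ ⊥) :
    IsMulCommutative ↥(P : Subgroup X) ∨ Shape p ↥(P : Subgroup X) := by
  obtain ⟨r, s, hr, hs, hrs, R, S, hRc, hRn, hSn, hsup⟩ := Core.minimalNonNilpotent_structure hX
  have := Fact.mk hr
  have := Fact.mk hs
  have hps : p = s := by
    by_contra hne
    by_cases hpr : p = r
    · subst hpr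
      have := Sylow.unique_of_normal P hPn
      exact hRn (Subsingleton.elim P R ▸ hPn)
    · apply hP1
      rw [← Subgroup.card_eq_one]
      obtain ⟨k, hk⟩ := IsPGroup.iff_card.1 P.isPGroup'
      have hdiv : Nat.card (P : Subgroup X) ∣ Nat.card (R : Subgroup X) * Nat.card (S : Subgroup X) := by
        have h := Core.card_sup_mul_card_inf (R : Subgroup X) (S : Subgroup X)
        rw [hsup, card_top] at h
        exact (card_subgroup_dvd_card _).trans (Dvd.intro _ h)
      obtain ⟨i, hi⟩ := IsPGroup.iff_card.1 R.isPGroup'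
      obtain ⟨j, hj⟩ := IsPGroup.iff_card.1 S.isPGroup'
      rw [hk, hi, hj] at hdiv
      rw [hk]
      exact Nat.eq_one_of_dvd_coprimes (Nat.Coprime.mul_right
        (((Nat.coprime_primes Fact.out hr).2 hpr).pow k i)
        (((Nat.coprime_primes Fact.out hs).2 hne).pow k j)) dvd_rfl hdiv
  subst hps
  have hu := Sylow.unique_of_normal P hPn
  obtain rfl : S = P := Subsingleton.elim _ _
  set P0 : Subgroup X := (S : Subgroup X) with hP0
  have hne : Nontrivial P0 := (nontrivial_iff_ne_bot P0).2 hP1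
  obtain ⟨y, hy⟩ : ∃ y : X, zpowers y = (R : Subgroup X) := by
    obtain ⟨⟨g, hg⟩, hgen⟩ := hRc.exists_zpow_surjective
    refine ⟨g, le_antisymm (zpowers_le.2 hg) fun x hx => ?_⟩
    obtain ⟨j, hj⟩ := hgen ⟨x, hx⟩
    exact ⟨j, congrArg Subtype.val hj⟩
  have hyR : y ∈ (R : Subgroup X) := hy ▸ mem_zpowers y
  have hnc : y ∉ centralizer (P0 : Set X) := by
    intro hc
    apply hRn
    rw [← normalizer_eq_top_iff, eq_top_iff, ← hsup]
    refine sup_le le_normalizer fun x hx => centralizer_le_normalizer _ ?_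
    rw [← hy, mem_centralizer_iff]
    intro w hw
    obtain ⟨j, rfl⟩ := mem_zpowers_iff.1 hw
    exact (Commute.zpow_left (mem_centralizer_iff.1 hc x hx).symm j).eq
  have hprop : ∀ (L : Subgroup X) (w : X), L ≤ P0 → w ∈ (R : Subgroup X) →
      L ⊔ zpowers w ≠ ⊤ → ∀ l ∈ L, w * l = l * w := by
    intro L w hL hw hne l hl
    have hN := hX.2 _ hne
    have hcop : (orderOf (⟨w, mem_sup_right (mem_zpowers w)⟩ : ↥(L ⊔ zpowers w))).Coprime
        (orderOf (⟨l, mem_sup_left hl⟩ : ↥(L ⊔ zpowers w))) := by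
      rw [orderOf_mk, orderOf_mk]
      obtain ⟨i, hi⟩ := IsPGroup.iff_card.1 R.isPGroup'
      obtain ⟨j, hj⟩ := IsPGroup.iff_card.1 S.isPGroup'
      refine Nat.Coprime.coprime_dvd_left ?_ (Nat.Coprime.coprime_dvd_right ?_
        (((Nat.coprime_primes hr Fact.out).2 hrs).pow i j))
      · exact hi ▸ orderOf_dvd_natCard _ hw
      · exact hj ▸ orderOf_dvd_natCard _ (hL hl)
    exact congrArg Subtype.val (OddLocal.commute_of_coprime_orderOf hN hcop).eq
  have hdisj : (R : Subgroup X) ⊓ P0 = ⊥ :=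
    (IsPGroup.disjoint_of_ne r p hrs _ _ R.isPGroup' S.isPGroup').eq_bot
  have hcardX : Nat.card X = Nat.card (R : Subgroup X) * Nat.card P0 := by
    have h := Core.card_sup_of_inf_eq_bot hdisj
    rwa [hsup, card_top] at h
  let α : MulAut P0 := MulAut.conjNormal y
  have hα1 : α ≠ 1 := fun h => hnc (mem_centralizer_iff.2 fun x hx => by
    have h1 : y * x * y⁻¹ = x := congrArg Subtype.val (DFunLike.congr_fun h (⟨x, hx⟩ : P0))
    exact ((mul_inv_eq_iff_eq_mul.1 h1)).symm)
  have hyo : orderOf y = Nat.card (R : Subgroup X) := by rw [← hy, Nat.card_zpowers]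
  have hαr : α ^ r = 1 := by
    ext ⟨x, hx⟩
    rw [show α ^ r = MulAut.conjNormal (y ^ r) from (map_pow _ y r).symm, MulAut.conjNormal_apply]
    show y ^ r * x * (y ^ r)⁻¹ = x
    rw [hprop P0 (y ^ r) le_rfl (pow_mem hyR r) ?_ x hx, mul_inv_cancel_right]
    intro htop
    have hd : zpowers (y ^ r) ⊓ P0 = ⊥ := le_bot_iff.1
      ((inf_le_inf_right _ (zpowers_le.2 (pow_mem hyR r))).trans hdisj.le)
    have h := Core.card_sup_of_inf_eq_bot hd
    rw [sup_comm, htop, card_top, hcardX, Nat.card_zpowers] at h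
    have h' := Nat.eq_of_mul_eq_mul_right Nat.card_pos h
    obtain ⟨i, hi⟩ := IsPGroup.iff_card.1 R.isPGroup'
    rcases Nat.eq_zero_or_pos i with hi0 | hi0
    · apply hRn
      have : (R : Subgroup X) = ⊥ := Subgroup.card_eq_one.1 (by rw [hi, hi0, pow_zero])
      rw [this]; infer_instance
    · rw [orderOf_pow' _ hr.ne_zero, hyo, hi,
        Nat.gcd_eq_right (dvd_pow_self r hi0.ne')] at h'
      exact absurd h'.symm (Nat.div_lt_self (pow_pos hr.pos i) hr.one_lt).ne
  refine shape_of_operator S.isPGroup' (Ne.symm hrs) hne α hα1 hαr fun L hL htop x hx => ?_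
  apply Subtype.ext
  show y * (x : X) * y⁻¹ = x
  set L' : Subgroup X := L.map P0.subtype with hL'
  rw [hprop L' y (map_subtype_le _) hyR ?_ x (mem_map_of_mem _ hx), mul_inv_cancel_right]
  intro hh
  apply htop
  have hyN : y ∈ normalizer (L' : Set X) := by
    have hle : L'.map (MulAut.conj y).toMonoidHom ≤ L' := by
      rintro _ ⟨_, ⟨l, hl, rfl⟩, rfl⟩
      exact ⟨α l, hL l hl, rfl⟩
    have he := eq_of_le_of_card_ge hle
      (card_map_of_injective (MulAut.conj y).injective).ge
    rw [mem_normalizer_iff]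
    intro z
    constructor
    · intro hz; exact hle ⟨z, hz, rfl⟩
    · intro hz
      rw [← he] at hz
      obtain ⟨z', hz', e⟩ := hz
      have : z' = z := (MulAut.conj y).injective e
      exact this ▸ hz'
  have : L'.Normal := by
    rw [← normalizer_eq_top_iff, eq_top_iff, ← hh]
    exact sup_le le_normalizer (zpowers_le.2 hyN)
  have hd : zpowers y ⊓ L' = ⊥ := le_bot_iff.1
    ((inf_le_inf (zpowers_le.2 hyR) (map_subtype_le _)).trans hdisj.le)
  have h := Core.card_sup_of_inf_eq_bot hd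
  rw [sup_comm, hh, card_top, hcardX, Nat.card_zpowers, hyo] at h
  have h' := Nat.eq_of_mul_eq_mul_left Nat.card_pos h
  rw [hL', card_map_of_injective P0.subtype_injective] at h'
  exact eq_top_of_card_eq L h'.symm

end Cfsg.Agent.PLenShape
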